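import Cfsg.Agent.Lib.OrderElim.A6Table
import Cfsg.Agent.Lib.Small.Fixed
import Cfsg.Agent.Lib.Small.Intersection

/-!
A simple group of order 360 is the alternating group of degree six.
-/

set_option autoImplicit false

namespace CfsgLib.OrderElim.A6

open MulAction

variable {G : Type*} [Group G] [Finite G] [IsSimpleGroup G]

/-- Position of an affine point. -/
def enc (v : ZMod 3 × ZMod 3) : Fin 10 :=
  ⟨3 * v.1.val + v.2.val, by have := ZMod.val_lt v.1; have := ZMod.val_lt v.2; omega⟩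

theorem enc_inj : ∀ v w, enc v = enc w → v = w := by decide
theorem enc_ne_nine : ∀ v, enc v ≠ 9 := by decide
theorem enc_surj : ∀ z : Fin 10, z ≠ 9 → ∃ v, enc v = z := by decide
theorem tauT_enc : ∀ v w, tauT (enc v) (enc w) = enc (v + w) := by decide +kernel
theorem tauT_nine : ∀ v, tauT (enc v) 9 = 9 := by decide
theorem kT_enc : ∀ v : ZMod 3 × ZMod 3, kT (enc v) = enc (-v.2, v.1) := by decide
theorem negT_enc : ∀ v, negT (enc v) = enc (-v) := by decide
theorem kT_nine : kT 9 = 9 := by decide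
theorem enc_zero : enc 0 = 0 := by decide

theorem zmod3_sq_add_one : ∀ b : ZMod 3, b * b + 1 ≠ 0 := by decide

theorem zmod3_inv : ∀ b : ZMod 3, b ≠ 0 → (-b).val * (-b).val ≡ 1 [MOD 3] := by decide

omit [Finite G] [IsSimpleGroup G] in
theorem eq_of_faithful {P : Subgroup G} {K : Subgroup G}
    (hfaith : ∀ c ∈ K, (∀ x ∈ P, c * x * c⁻¹ = x) → c = 1) (c d : G) (hc : c ∈ K) (hd : d ∈ K)
    (hx : ∀ x ∈ P, c⁻¹ * d * x * (c⁻¹ * d)⁻¹ = x) : d = c :=
  (inv_mul_eq_one.mp (hfaith _ (K.mul_mem (K.inv_mem hc) hd) hx)).symm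

theorem sylow_facts (h : Nat.card G = 360) :
    (∀ P : Sylow 3 G, Nat.card P = 9) ∧ Nat.card (Sylow 3 G) = 10 := by
  have : Fact (Nat.Prime 3) := ⟨Nat.prime_three⟩
  have hG := Small.nc_of_not_prime (G := G) (by rw [h]; norm_num)
  have hP : ∀ P : Sylow 3 G, Nat.card P = 9 := fun P => by
    simpa using Small.card_sylow_of_card_eq (k := 2) (m := 40) (by rw [h]; norm_num) (by norm_num) P
  refine ⟨hP, ?_⟩
  have hn := Small.card_sylow_mem (p := 3) hG (k := 2) (m := 40) (by norm_num) (by rw [h]; norm_num)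
    (by norm_num)
  rw [show ((Nat.divisors 40).filter fun n => n % 3 = 1 ∧ 1 < n) = {4, 10, 40} from by decide] at hn
  simp only [Finset.mem_insert, Finset.mem_singleton] at hn
  have h4 := Small.two_mul_card_dvd_factorial_card_sylow (p := 3) hG (by rw [h]; norm_num)
  rcases hn with h0 | h0 | h0
  · rw [h0, h] at h4; exact absurd h4 (by decide)
  · exact h0
  · exfalso
    obtain ⟨P⟩ := (inferInstance : Nonempty (Sylow 3 G))
    have hN := Small.card_normalizer_mul_card_sylow P
    rw [h0, h] at hN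
    have hNP : Subgroup.normalizer ((P : Subgroup G) : Set G) = (P : Subgroup G) :=
      (Subgroup.eq_of_le_of_card_ge Subgroup.le_normalizer (by rw [hP P]; omega)).symm
    refine Small.not_normalizer_le_centralizer hG (by rw [h]; norm_num) P ?_
    rw [hNP]
    have := IsPGroup.isMulCommutative_of_card_eq_prime_sq (p := 3) (G := P) (by rw [hP P]; norm_num)
    intro x hx
    rw [Subgroup.mem_centralizer_iff]
    intro y hy
    exact congrArg Subtype.val (this.is_comm.comm (⟨y, hy⟩ : P) ⟨x, hx⟩)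

theorem sylow_comm (h : Nat.card G = 360) (P : Sylow 3 G) {a b : G} (ha : a ∈ (P : Subgroup G))
    (hb : b ∈ (P : Subgroup G)) : a * b = b * a := by
  have : Fact (Nat.Prime 3) := ⟨Nat.prime_three⟩
  have := IsPGroup.isMulCommutative_of_card_eq_prime_sq (p := 3) (G := P)
    (by rw [(sylow_facts h).1 P]; norm_num)
  exact congrArg Subtype.val (this.is_comm.comm (⟨a, ha⟩ : P) ⟨b, hb⟩)

/-- Sylow 3-subgroups meet trivially. -/
theorem sylow_ti (h : Nat.card G = 360) {P Q : Sylow 3 G} {x : G} (hx : x ≠ 1)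
    (hxP : x ∈ (P : Subgroup G)) (hxQ : x ∈ (Q : Subgroup G)) : P = Q := by
  classical
  by_contra hne
  have : Fact (Nat.Prime 3) := ⟨Nat.prime_three⟩
  have hG := Small.nc_of_not_prime (G := G) (by rw [h]; norm_num)
  obtain ⟨hP9, -⟩ := sylow_facts h
  set C := Subgroup.centralizer ({x} : Set G) with hC
  have hPC : (P : Subgroup G) ≤ C := fun y hy =>
    Subgroup.mem_centralizer_singleton_iff.mpr (sylow_comm h P hy hxP)
  have hQC : (Q : Subgroup G) ≤ C := fun y hy =>
    Subgroup.mem_centralizer_singleton_iff.mpr (sylow_comm h Q hy hxQ)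
  have hCtop : C ≠ ⊤ := by
    intro e
    refine hx (Subgroup.mem_bot.mp ((Small.center_eq_bot_of_nc hG).le (Subgroup.mem_center_iff.mpr ?_)))
    intro y
    exact Subgroup.mem_centralizer_singleton_iff.mp (e ▸ Subgroup.mem_top y : y ∈ C)
  have hidx := Small.two_mul_card_le_factorial_index hG hCtop
  have hidx6 : 6 ≤ C.index := by
    by_contra hlt
    have := Nat.factorial_le (show C.index ≤ 5 by omega)
    rw [show (5 : ℕ).factorial = 120 from rfl] at this
    omega
  obtain ⟨m, hm⟩ := Subgroup.card_dvd_of_le hPC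
  rw [show Nat.card (P : Subgroup G) = 9 from hP9 P] at hm
  have hCi := Subgroup.card_mul_index C
  rw [h, hm] at hCi
  have hm6 : m ≤ 6 := by
    have := Nat.mul_le_mul_left (9 * m) hidx6
    omega
  have hm40 : m ∣ 40 := ⟨C.index, by
    rw [mul_assoc] at hCi
    omega⟩
  have h3m : ¬ 3 ∣ m := fun hd => absurd (hd.trans hm40) (by norm_num)
  have hS : ∀ S : Sylow 3 C, Nat.card S = 9 := fun S => by
    simpa using Small.card_sylow_of_card_eq (G := C) (k := 2) (m := m) (by rw [hm]; norm_num) h3m S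
  let P' : Sylow 3 C := P.subtype hPC
  let Q' : Sylow 3 C := Q.subtype hQC
  have hPQ' : P' ≠ Q' := by
    intro e
    have e2 : (P : Subgroup G).subgroupOf C = (Q : Subgroup G).subgroupOf C :=
      congrArg (fun S : Sylow 3 C => (S : Subgroup C)) e
    refine hne (Sylow.ext ?_)
    rw [← Subgroup.map_subgroupOf_eq_of_le hPC, ← Subgroup.map_subgroupOf_eq_of_le hQC, e2]
  have hn1 : Nat.card (Sylow 3 C) ≠ 1 := fun e => by
    have := (Nat.card_eq_one_iff_unique.mp e).1
    exact hPQ' (Subsingleton.elim _ _)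
  have hnd : Nat.card (Sylow 3 C) ∣ m := by
    have := P'.card_dvd_index
    rwa [Small.index_sylow_of_card_eq (G := C) (k := 2) (m := m) (by rw [hm]; norm_num) h3m P'] at this
  have hnm : Nat.card (Sylow 3 C) % 3 = 1 := card_sylow_modEq_one 3 C
  have hm4 : m = 4 ∧ Nat.card (Sylow 3 C) = 4 := by
    have hm0 : m ≠ 0 := fun e => by rw [e] at hm40; norm_num at hm40
    have hle := Nat.le_of_dvd (by omega) hnd
    have hn4 : Nat.card (Sylow 3 C) = 4 := by omega
    rw [hn4] at hnd hle
    obtain ⟨c, hc⟩ := hnd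
    exact ⟨by omega, hn4⟩
  obtain ⟨rfl, hn4⟩ := hm4
  -- Burnside: a normal subgroup of order four in the centraliser
  have hN : Subgroup.normalizer ((P' : Subgroup C) : Set C) = (P' : Subgroup C) := by
    refine (Subgroup.eq_of_le_of_card_ge Subgroup.le_normalizer ?_).symm
    have := Small.card_normalizer_mul_card_sylow P'
    rw [hn4, hm] at this
    rw [show Nat.card (P' : Subgroup C) = 9 from hS P']
    omega
  have hab : Subgroup.normalizer ((P' : Subgroup C) : Set C) ≤
      Subgroup.centralizer ((P' : Subgroup C) : Set C) := by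
    rw [hN]
    intro a ha
    rw [Subgroup.mem_centralizer_iff]
    intro b hb
    exact Subtype.ext (sylow_comm h P (hb : (b : G) ∈ (P : Subgroup G)) (ha : (a : G) ∈ (P : Subgroup G)))
  have hcompl := MonoidHom.ker_transferSylow_isComplement' P' hab
  set W0 := (MonoidHom.transferSylow P' hab).ker with hW0
  have hW4 : Nat.card W0 = 4 := by
    have := hcompl.card_mul
    rw [show Nat.card (P' : Subgroup C) = 9 from hS P', hm] at this
    omega
  set W := W0.map C.subtype with hW
  have hWc : Nat.card W = 4 := by rw [hW, Subgroup.card_map_of_injective C.subtype_injective, hW4]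
  have hCW : C ≤ Subgroup.normalizer (W : Set G) := by
    intro g hg
    rw [Subgroup.mem_normalizer_iff]
    intro y
    constructor
    · rintro ⟨y', hy', rfl⟩
      exact ⟨_, (MonoidHom.normal_ker (MonoidHom.transferSylow P' hab)).conj_mem y' hy' ⟨g, hg⟩, rfl⟩
    · rintro ⟨y', hy', hyy⟩
      refine ⟨_, (MonoidHom.normal_ker (MonoidHom.transferSylow P' hab)).conj_mem y' hy' ⟨g, hg⟩⁻¹, ?_⟩
      have e : (y' : G) = g * y * g⁻¹ := hyy
      show g⁻¹ * (y' : G) * g⁻¹⁻¹ = y
      rw [e]; group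
  have : Fact (Nat.Prime 2) := ⟨Nat.prime_two⟩
  obtain ⟨S, hWS⟩ := (IsPGroup.of_card (p := 2) (n := 2) (show Nat.card W = 2 ^ 2 by rw [hWc]; norm_num)).exists_le_sylow
  have hS8 : Nat.card S = 8 := by
    simpa using Small.card_sylow_of_card_eq (k := 3) (m := 45) (by rw [h]; norm_num) (by norm_num) S
  have hSN : (S : Subgroup G) ≤ Subgroup.normalizer (W : Set G) := by
    have hidx2 : (W.subgroupOf (S : Subgroup G)).index = 2 := by
      have h1 := Subgroup.card_mul_index (W.subgroupOf (S : Subgroup G))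
      rw [Nat.card_congr (Subgroup.subgroupOfEquivOfLe hWS).toEquiv, hWc,
        show Nat.card (S : Subgroup G) = 8 from hS8] at h1
      omega
    exact (Subgroup.normal_subgroupOf_iff_le_normalizer hWS).mp (Subgroup.normal_of_index_eq_two hidx2)
  have hWbot : W ≠ ⊥ := fun e => by rw [e, Subgroup.card_bot] at hWc; norm_num at hWc
  have hWtop : W ≠ ⊤ := fun e => by rw [e, Subgroup.card_top, h] at hWc; norm_num at hWc
  have hidxW := Small.two_mul_card_le_factorial_index hG (Small.normalizer_ne_top hWbot hWtop)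
  set N := Subgroup.normalizer (W : Set G) with hNdef
  have h72 : 72 ∣ Nat.card N := by
    have h36 := Subgroup.card_dvd_of_le hCW
    have h8 := Subgroup.card_dvd_of_le hSN
    rw [hm] at h36
    rw [show Nat.card (S : Subgroup G) = 8 from hS8] at h8
    have h9 : 9 ∣ Nat.card N := (Dvd.intro 4 rfl).trans h36
    exact Nat.Coprime.mul_dvd_of_dvd_of_dvd (show Nat.Coprime 9 8 by norm_num) h9 h8
  obtain ⟨d, hd⟩ := h72
  have hNi := Subgroup.card_mul_index N
  rw [h, hd, mul_assoc] at hNi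
  have h5 : N.index ≤ 5 := Nat.le_of_dvd (by norm_num) ⟨d, by rw [mul_comm]; omega⟩
  have := Nat.factorial_le h5
  rw [show (5 : ℕ).factorial = 120 from rfl] at this
  omega

theorem eq_of_fix (h : Nat.card G = 360) {P Q : Sylow 3 G} {x : G} (hx : x ≠ 1)
    (hxP : x ∈ (P : Subgroup G)) (hfix : x • Q = Q) : Q = P := by
  have : Fact (Nat.Prime 3) := ⟨Nat.prime_three⟩
  have hxN : x ∈ Subgroup.normalizer ((Q : Subgroup G) : Set G) :=
    Sylow.smul_eq_iff_mem_normalizer.mp hfix
  have hpg : IsPGroup 3 (Subgroup.zpowers x) :=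
    P.2.to_le (Subgroup.zpowers_le.mpr hxP)
  have h2 : x ∈ Subgroup.zpowers x ⊓ (Q : Subgroup G) :=
    hpg.inf_normalizer_sylow Q ▸ Subgroup.mem_inf.mpr ⟨Subgroup.mem_zpowers x, hxN⟩
  exact sylow_ti h hx h2.2 hxP

theorem toPerm_ker (h : Nat.card G = 360) : Function.Injective (toPermHom G (Sylow 3 G)) := by
  rw [← MonoidHom.ker_eq_bot_iff]
  refine (Small.eq_bot_or_top _).resolve_right fun e => ?_
  have : Fact (Nat.Prime 3) := ⟨Nat.prime_three⟩
  have : Nontrivial (Sylow 3 G) := Finite.one_lt_card_iff_nontrivial.mp (by rw [(sylow_facts h).2]; norm_num)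
  obtain ⟨Q, R, hQR⟩ := exists_pair_ne (Sylow 3 G)
  obtain ⟨g, hg⟩ := exists_smul_eq G Q R
  have := Equiv.ext_iff.mp (MonoidHom.mem_ker.mp (show g ∈ (toPermHom G (Sylow 3 G)).ker by rw [e]; exact Subgroup.mem_top g)) Q
  exact hQR (this.symm.trans hg)

/-- The group seen on the projective line over nine elements. -/
theorem exists_line (h : Nat.card G = 360) :
    ∃ ψ : G →* Equiv.Perm (Fin 10), Function.Injective ψ ∧
      (∀ v, ∃ u, ∀ z, ψ u z = tauT (enc v) z) ∧ (∃ k, ∀ z, ψ k z = kT z) ∧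
      (∀ g, ψ g 9 = 9 → ∃ v : ZMod 3 × ZMod 3, ∃ j : Fin 4, ∀ z, ψ g z = tauT (enc v) (kT^[j.val] z)) ∧
      (∃ t e, (e = 1 ∨ e = 3) ∧ ψ t 9 = 0 ∧ ψ t 0 = 9 ∧ (∀ z, ψ t (kT z) = kT^[e] (ψ t z)) ∧
        ∃ j : Fin 4, ∀ z, ψ t (ψ t z) = kT^[j.val] z) := by
  classical
  have : Fact (Nat.Prime 3) := ⟨Nat.prime_three⟩
  have : Fact (Nat.Prime 2) := ⟨Nat.prime_two⟩
  have hG := Small.nc_of_not_prime (G := G) (by rw [h]; norm_num)
  obtain ⟨hP9, hn10⟩ := sylow_facts h
  obtain ⟨P⟩ := (inferInstance : Nonempty (Sylow 3 G))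
  obtain ⟨Q0, hQ0⟩ : ∃ Q0 : Sylow 3 G, Q0 ≠ P := by
    have : Nontrivial (Sylow 3 G) := Finite.one_lt_card_iff_nontrivial.mp (by omega)
    exact exists_ne P
  have hNP : ∀ g : G, g ∈ Subgroup.normalizer ((P : Subgroup G) : Set G) ↔ g • P = P := fun g =>
    Sylow.smul_eq_iff_mem_normalizer.symm
  have hPfix : ∀ x ∈ (P : Subgroup G), x • P = P := fun x hx => (hNP x).mp (Subgroup.le_normalizer hx)
  -- the regular orbit
  have hreg : Function.Bijective
      (fun x : (P : Subgroup G) => (⟨(x : G) • Q0, fun e => hQ0 (by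
        calc Q0 = (x : G)⁻¹ • (x : G) • Q0 := (inv_smul_smul _ _).symm
          _ = (x : G)⁻¹ • P := by rw [e]
          _ = P := hPfix _ ((P : Subgroup G).inv_mem x.2))⟩ : {Q : Sylow 3 G // Q ≠ P})) := by
    rw [Nat.bijective_iff_injective_and_card]
    refine ⟨fun a b hab => ?_, ?_⟩
    · have h1 : ((a : G)⁻¹ * b) • Q0 = Q0 := by
        have e : (a : G) • Q0 = (b : G) • Q0 := congrArg Subtype.val hab
        rw [mul_smul, ← e, inv_smul_smul]
      by_contra hne
      refine hQ0 (eq_of_fix h ?_ ((P : Subgroup G).mul_mem ((P : Subgroup G).inv_mem a.2) b.2) h1)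
      exact fun e => hne (Subtype.ext (inv_mul_eq_one.mp e))
    · have := Fintype.ofFinite (Sylow 3 G)
      rw [show Nat.card (P : Subgroup G) = 9 from hP9 P, Nat.card_eq_fintype_card, Fintype.card_subtype_compl,
        Fintype.card_subtype_eq, ← Nat.card_eq_fintype_card, hn10]
  have horb : ∀ Q : Sylow 3 G, Q ≠ P → ∃ x : G, x ∈ (P : Subgroup G) ∧ x • Q0 = Q := fun Q hQ => by
    obtain ⟨⟨x, hx⟩, e⟩ := hreg.2 ⟨Q, hQ⟩
    exact ⟨x, hx, congrArg Subtype.val e⟩
  have hinjP : ∀ a ∈ (P : Subgroup G), ∀ b ∈ (P : Subgroup G), a • Q0 = b • Q0 → a = b :=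
    fun a ha b hb e => congrArg Subtype.val (@hreg.1 ⟨a, ha⟩ ⟨b, hb⟩ (Subtype.ext e))
  -- the two-point stabiliser
  set N := Subgroup.normalizer ((P : Subgroup G) : Set G) with hNdef
  let K : Subgroup G := N ⊓ stabilizer G Q0
  have hN36 : Nat.card N = 36 := by
    have := Small.card_normalizer_mul_card_sylow P
    rw [hn10, h] at this
    change Nat.card N * 10 = 360 at this
    omega
  have hK4 : Nat.card K = 4 := by
    let f : ↥(P : Subgroup G) × K → N := fun q => ⟨(q.1 : G) * (q.2 : G), N.mul_mem (Subgroup.le_normalizer q.1.2) q.2.2.1⟩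
    have hf : Function.Bijective f := by
      constructor
      · rintro ⟨a, c⟩ ⟨a', c'⟩ hac
        have e : (a : G) * c = a' * c' := congrArg Subtype.val hac
        have e2 := congrArg (· • Q0) e
        simp only [mul_smul] at e2
        rw [show (c : G) • Q0 = Q0 from c.2.2, show (c' : G) • Q0 = Q0 from c'.2.2] at e2
        obtain rfl : a = a' := Subtype.ext (hinjP _ a.2 _ a'.2 e2)
        exact Prod.ext rfl (Subtype.ext (mul_left_cancel e))
      · rintro ⟨g, hg⟩
        obtain ⟨x, hx, hxe⟩ := horb (g • Q0) (fun e => hQ0 (by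
          calc Q0 = g⁻¹ • g • Q0 := (inv_smul_smul _ _).symm
            _ = g⁻¹ • P := by rw [e]
            _ = P := (hNP g⁻¹).mp (N.inv_mem hg)))
        refine ⟨⟨⟨x, hx⟩, ⟨x⁻¹ * g, N.mul_mem (N.inv_mem (Subgroup.le_normalizer hx)) hg, ?_⟩⟩,
          Subtype.ext (mul_inv_cancel_left x g)⟩
        show (x⁻¹ * g) • Q0 = Q0
        rw [mul_smul, ← hxe, inv_smul_smul]
    have := Nat.card_congr (Equiv.ofBijective f hf)
    rw [Nat.card_prod, show Nat.card (P : Subgroup G) = 9 from hP9 P, hN36] at this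
    omega
  have hKconj : ∀ c ∈ K, ∀ x ∈ (P : Subgroup G), c * x * c⁻¹ ∈ (P : Subgroup G) ∧
      (c * x * c⁻¹) • Q0 = c • x • Q0 := by
    intro c hc x hx
    refine ⟨(Subgroup.mem_normalizer_iff.mp hc.1 x).mp hx, ?_⟩
    rw [mul_smul, mul_smul, show c⁻¹ • Q0 = Q0 from (inv_smul_eq_iff.mpr hc.2.symm)]
  have hfaith : ∀ c ∈ K, (∀ x ∈ (P : Subgroup G), c * x * c⁻¹ = x) → c = 1 := by
    intro c hc hcx
    refine toPerm_ker h ?_
    rw [map_one]
    ext1 Q
    show c • Q = Q
    by_cases hQ : Q = P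
    · rw [hQ]; exact (hNP c).mp hc.1
    · obtain ⟨x, hx, rfl⟩ := horb Q hQ
      rw [← (hKconj c hc x hx).2, hcx x hx]
  -- involutions of `K` invert `P`
  have hinvert : ∀ c ∈ K, orderOf c = 2 → ∀ x ∈ (P : Subgroup G), c * x * c⁻¹ = x⁻¹ := by
    intro c hc hc2
    set D := (P : Subgroup G) ⊓ Subgroup.centralizer ({c} : Set G) with hD
    have hmemD : ∀ x ∈ (P : Subgroup G), (c * x * c⁻¹ = x ↔ x ∈ D) := by
      intro x hx
      rw [hD, Subgroup.mem_inf, Subgroup.mem_centralizer_singleton_iff, mul_inv_eq_iff_eq_mul]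
      exact ⟨fun e => ⟨hx, e.symm⟩, fun e => e.2.symm⟩
    letI := Fintype.ofFinite (Sylow 3 G)
    set σ : Equiv.Perm (Sylow 3 G) := toPerm c with hσ
    have hsign : Equiv.Perm.sign σ = 1 := Small.sign_toPerm hG c
    have hord : orderOf σ = 2 :=
      (orderOf_injective (toPermHom G (Sylow 3 G)) (toPerm_ker h) c).trans hc2
    obtain ⟨k, hk⟩ := Equiv.Perm.cycleType_prime_order (σ := σ) (by rw [hord]; exact Nat.prime_two)
    rw [hord] at hk
    have hsupp : σ.support.card = 2 * (k + 1) := by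
      rw [← Equiv.Perm.sum_cycleType, hk, Multiset.sum_replicate, smul_eq_mul, mul_comm]
    have hsgn : (-1 : ℤˣ) ^ (2 * (k + 1) + (k + 1)) = 1 := by
      have := Equiv.Perm.sign_of_cycleType σ
      rw [hsign, hk, Multiset.sum_replicate, Multiset.card_replicate, smul_eq_mul, mul_comm] at this
      exact this.symm
    have hkeven : Even (k + 1) := by
      rcases Nat.even_or_odd (k + 1) with h0 | h0
      · exact h0
      · rw [pow_add, pow_mul, h0.neg_one_pow] at hsgn
        simp at hsgn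
    let F : Option D → {Q : Sylow 3 G // σ Q = Q} := fun o => match o with
      | none => ⟨P, (hNP c).mp hc.1⟩
      | some x => ⟨(x : G) • Q0, by
          show c • (x : G) • Q0 = (x : G) • Q0
          rw [← (hKconj c hc x x.2.1).2, (hmemD x x.2.1).mpr x.2]⟩
    have hne : ∀ x ∈ (P : Subgroup G), x • Q0 ≠ P := fun x hx e => hQ0 (by
      calc Q0 = x⁻¹ • x • Q0 := (inv_smul_smul _ _).symm
        _ = x⁻¹ • P := by rw [e]
        _ = P := hPfix _ ((P : Subgroup G).inv_mem hx))
    have hF : Function.Bijective F := by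
      constructor
      · rintro (_ | a) (_ | b) e
        · rfl
        · exact absurd (congrArg Subtype.val e).symm (hne b b.2.1)
        · exact absurd (congrArg Subtype.val e) (hne a a.2.1)
        · exact congrArg some (Subtype.ext (hinjP _ a.2.1 _ b.2.1 (congrArg Subtype.val e)))
      · rintro ⟨Q, hQ⟩
        by_cases hQP : Q = P
        · exact ⟨none, Subtype.ext hQP.symm⟩
        · obtain ⟨x, hx, rfl⟩ := horb Q hQP
          have hQ' : (c * x * c⁻¹) • Q0 = x • Q0 := by rw [(hKconj c hc x hx).2]; exact hQ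
          exact ⟨some ⟨x, (hmemD x hx).mp (hinjP _ (hKconj c hc x hx).1 _ hx hQ')⟩, rfl⟩
    have hcard : Nat.card {Q : Sylow 3 G // σ Q = Q} = 10 - σ.support.card := by
      rw [Nat.card_eq_fintype_card, Fintype.card_subtype,
        show (Finset.univ.filter fun Q => σ Q = Q) = σ.supportᶜ by ext Q; simp [Equiv.Perm.mem_support],
        Finset.card_compl, ← Nat.card_eq_fintype_card, hn10]
    rw [← Nat.card_congr (Equiv.ofBijective F hF), Finite.card_option, hsupp] at hcard
    have hD9 : Nat.card D ∣ 3 ^ 2 := by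
      have := Subgroup.card_dvd_of_le (inf_le_left : D ≤ (P : Subgroup G))
      rwa [show Nat.card (P : Subgroup G) = 9 from hP9 P] at this
    obtain ⟨i, hi, hDi⟩ := (Nat.dvd_prime_pow Nat.prime_three).mp hD9
    obtain ⟨j, hj⟩ := hkeven
    have hD1 : Nat.card D = 1 := by
      rcases (show i = 0 ∨ i = 1 ∨ i = 2 by omega) with rfl | rfl | rfl
      · simpa using hDi
      · norm_num at hDi; omega
      · norm_num at hDi; omega
    intro x hx
    have hy := (hKconj c hc x hx).1
    have hcc : c * c = 1 := by rw [← pow_two, ← hc2, pow_orderOf_eq_one]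
    have hcinv : c⁻¹ = c := inv_eq_of_mul_eq_one_left hcc
    have hxy : x * (c * x * c⁻¹) ∈ D := by
      refine (hmemD _ ((P : Subgroup G).mul_mem hx hy)).mp ?_
      calc c * (x * (c * x * c⁻¹)) * c⁻¹ = (c * x * c⁻¹) * ((c * c) * x * (c⁻¹ * c⁻¹)) := by group
        _ = (c * x * c⁻¹) * x := by rw [hcinv, hcc, one_mul, mul_one]
        _ = x * (c * x * c⁻¹) := sylow_comm h P hy hx
    have := (Subgroup.card_eq_one.mp hD1).le hxy
    exact eq_inv_of_mul_eq_one_right (Subgroup.mem_bot.mp this)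
  -- a generator of `K`
  obtain ⟨k, hkK, hk4⟩ : ∃ k ∈ K, orderOf k = 4 := by
    by_contra hcon
    push Not at hcon
    have hinvol : ∀ c : K, c ≠ 1 → orderOf (c : G) = 2 := by
      intro c hc
      have hd : orderOf c ∣ 2 ^ 2 := by
        have := orderOf_dvd_natCard c; rwa [hK4] at this
      rw [Subgroup.orderOf_coe]
      obtain ⟨i, hi, hci⟩ := (Nat.dvd_prime_pow Nat.prime_two).mp hd
      rcases (show i = 0 ∨ i = 1 ∨ i = 2 by omega) with rfl | rfl | rfl
      · exact absurd (orderOf_eq_one_iff.mp (by simpa using hci)) hc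
      · simpa using hci
      · exact absurd (by rw [Subgroup.orderOf_coe]; simpa using hci) (hcon c c.2)
    have : Nontrivial K := Finite.one_lt_card_iff_nontrivial.mp (by omega)
    obtain ⟨c, hc⟩ := exists_ne (1 : K)
    obtain ⟨d, hd1, hdc⟩ : ∃ d : K, d ≠ 1 ∧ d ≠ c := by
      by_contra h2
      push Not at h2
      have hsub : (Set.univ : Set K) ⊆ {1, c} := fun d _ => by
        by_cases hd : d = 1
        · exact Or.inl hd
        · exact Or.inr (h2 d hd)
      have := Set.ncard_le_ncard hsub (Set.toFinite _)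
      rw [Set.ncard_univ, hK4, Set.ncard_pair (Ne.symm hc)] at this
      omega
    refine hdc (Subtype.ext (eq_of_faithful hfaith c d c.2 d.2 ?_))
    intro x hx
    have h1 := hinvert c c.2 (hinvol c hc) x hx
    have h2 := hinvert d d.2 (hinvol d hd1) x hx
    calc (c : G)⁻¹ * d * x * ((c : G)⁻¹ * d)⁻¹ = (c : G)⁻¹ * (d * x * (d : G)⁻¹) * c := by group
      _ = x := by rw [h2, ← h1]; group
  have hk2 : ∀ x ∈ (P : Subgroup G), k * (k * x * k⁻¹) * k⁻¹ = x⁻¹ := by
    intro x hx
    have h2 : orderOf (k ^ 2) = 2 := by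
      rw [orderOf_pow' k (by norm_num), hk4]; norm_num
    rw [← hinvert _ (K.pow_mem hkK 2) h2 x hx, pow_two]; group
  -- coordinates
  obtain ⟨x, hxP, hx1⟩ : ∃ x ∈ (P : Subgroup G), x ≠ 1 := by
    have : Nontrivial (P : Subgroup G) := Finite.one_lt_card_iff_nontrivial.mp (by
      rw [show Nat.card (P : Subgroup G) = 9 from hP9 P]; norm_num)
    obtain ⟨a, ha⟩ := exists_ne (1 : (P : Subgroup G))
    exact ⟨a, a.2, fun e => ha (Subtype.ext e)⟩
  set y := k * x * k⁻¹ with hy
  have hyP : y ∈ (P : Subgroup G) := (hKconj k hkK x hxP).1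
  have hxy : x * y = y * x := sylow_comm h P hxP hyP
  have hpow3 : ∀ z ∈ (P : Subgroup G), z ^ 3 = 1 := by
    intro z hz
    by_contra hz3
    obtain ⟨n, hn, hzn⟩ : ∃ n ≤ 2, orderOf z = 3 ^ n := by
      have := orderOf_dvd_natCard (⟨z, hz⟩ : (P : Subgroup G))
      rw [Subgroup.orderOf_mk, show Nat.card (P : Subgroup G) = 9 from hP9 P] at this
      exact (Nat.dvd_prime_pow Nat.prime_three).mp (by simpa using this)
    have hn2 : n = 2 := by
      by_contra hne
      apply hz3
      rw [← orderOf_dvd_iff_pow_eq_one, hzn]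
      exact pow_dvd_pow 3 (show n ≤ 1 by omega)
    subst hn2
    -- a cyclic `P` has no automorphism of order four
    have htop : Subgroup.zpowers z = (P : Subgroup G) := Subgroup.eq_of_le_of_card_ge
      (Subgroup.zpowers_le.mpr hz) (by rw [Nat.card_zpowers, hzn, show Nat.card (P : Subgroup G) = 9 from hP9 P]; norm_num)
    have hkz : k * z * k⁻¹ ∈ Subgroup.zpowers z := htop ▸ (hKconj k hkK z hz).1
    obtain ⟨a, ha⟩ := hkz
    have ha' : k * z * k⁻¹ = z ^ a := ha.symm
    have h2 := hk2 z hz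
    rw [ha', ← conj_zpow, ha', ← zpow_mul, ← zpow_neg_one] at h2
    have h3 : z ^ (a * a + 1) = 1 := by rw [zpow_add, h2, zpow_neg_one, zpow_one, inv_mul_cancel]
    have h4 := orderOf_dvd_iff_zpow_eq_one.mpr h3
    rw [hzn] at h4
    have h5 : (3 : ℤ) ∣ a * a + 1 := (show (3:ℤ) ∣ ((3 ^ 2 : ℕ) : ℤ) by norm_num).trans h4
    have h6 : ((a * a + 1 : ℤ) : ZMod 3) = 0 := (ZMod.intCast_zmod_eq_zero_iff_dvd _ 3).mpr h5
    push_cast at h6
    exact zmod3_sq_add_one _ h6
  let u : ZMod 3 × ZMod 3 → G := fun v => x ^ v.1.val * y ^ v.2.val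
  have huP : ∀ v, u v ∈ (P : Subgroup G) := fun v =>
    (P : Subgroup G).mul_mem ((P : Subgroup G).pow_mem hxP _) ((P : Subgroup G).pow_mem hyP _)
  have hpm : ∀ z ∈ (P : Subgroup G), ∀ a b : ZMod 3, z ^ a.val * z ^ b.val = z ^ (a + b).val := by
    intro z hz a b
    rw [ZMod.val_add, ← pow_add]
    exact pow_eq_pow_mod _ (hpow3 z hz)
  have huadd : ∀ v w, u v * u w = u (v + w) := by
    intro v w
    show x ^ v.1.val * y ^ v.2.val * (x ^ w.1.val * y ^ w.2.val) = x ^ (v.1 + w.1).val * y ^ (v.2 + w.2).val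
    rw [← hpm x hxP, ← hpm y hyP]
    exact (Commute.pow_pow (show Commute y x from hxy.symm) _ _).mul_mul_mul_comm _ _
  have hu0 : u 0 = 1 := by simp [u]
  have huneg : ∀ v, u (-v) = (u v)⁻¹ := fun v =>
    eq_inv_of_mul_eq_one_left (by rw [huadd, neg_add_cancel, hu0])
  have huinj : ∀ v, u v = 1 → v = 0 := by
    intro v hv
    obtain ⟨a, b⟩ := v
    have hy_pow : ∀ c : ZMod 3, y ^ c.val = k * x ^ c.val * k⁻¹ := fun c => by rw [hy, conj_pow]
    have e1 : x ^ a.val = y ^ (-b).val := by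
      have e2 : y ^ b.val * y ^ (-b).val = 1 := by rw [hpm y hyP, add_neg_cancel]; simp
      calc x ^ a.val = x ^ a.val * (y ^ b.val * y ^ (-b).val) := by rw [e2, mul_one]
        _ = (x ^ a.val * y ^ b.val) * y ^ (-b).val := by rw [mul_assoc]
        _ = y ^ (-b).val := by rw [show x ^ a.val * y ^ b.val = 1 from hv, one_mul]
    have hxinj : ∀ c : ZMod 3, x ^ c.val = 1 → c = 0 := by
      intro c hc
      have hd := orderOf_dvd_of_pow_eq_one hc
      rw [orderOf_eq_prime (hpow3 x hxP) hx1] at hd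
      exact (ZMod.val_eq_zero c).mp (Nat.eq_zero_of_dvd_of_lt hd (ZMod.val_lt c))
    by_cases ha : a = 0
    · subst ha
      have hb1 : x ^ (-b).val = 1 := by
        have := hy_pow (-b)
        rw [← e1] at this
        simp only [ZMod.val_zero, pow_zero] at this
        calc x ^ (-b).val = k⁻¹ * (k * x ^ (-b).val * k⁻¹) * k := by group
          _ = 1 := by rw [← this]; group
      simpa using hxinj _ hb1
    · exfalso
      have hyx : y ∈ Subgroup.zpowers x := by
        by_cases hb : b = 0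
        · subst hb
          exact absurd (hxinj a (by rw [e1]; simp)) ha
        · have hinv : ∃ c : ℕ, (y ^ (-b).val) ^ c = y := by
            refine ⟨(-b).val, ?_⟩
            rw [← pow_mul]
            conv_rhs => rw [← pow_one y]
            rw [pow_eq_pow_iff_modEq, orderOf_eq_prime (hpow3 y hyP)
              (fun e => hx1 (by
                calc x = k⁻¹ * (k * x * k⁻¹) * k := by group
                  _ = 1 := by rw [← hy, e]; group))]
            exact zmod3_inv b hb
          obtain ⟨c, hc⟩ := hinv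
          rw [← hc, ← e1]
          exact Subgroup.pow_mem _ (Subgroup.pow_mem _ (Subgroup.mem_zpowers x) _) _
      obtain ⟨n, hn⟩ := hyx
      have hn' : k * x * k⁻¹ = x ^ n := hn.symm
      have h2 := hk2 x hxP
      rw [hn', ← conj_zpow, hn', ← zpow_mul, ← zpow_neg_one] at h2
      have h3 : x ^ (n * n + 1) = 1 := by rw [zpow_add, h2, zpow_neg_one, zpow_one, inv_mul_cancel]
      have h4 := orderOf_dvd_iff_zpow_eq_one.mpr h3
      rw [orderOf_eq_prime (hpow3 x hxP) hx1] at h4
      have h6 : ((n * n + 1 : ℤ) : ZMod 3) = 0 := (ZMod.intCast_zmod_eq_zero_iff_dvd _ 3).mpr h4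
      push_cast at h6
      exact zmod3_sq_add_one _ h6
  have hku : ∀ v : ZMod 3 × ZMod 3, k * u v * k⁻¹ = u (-v.2, v.1) := by
    rintro ⟨a, b⟩
    have hky : k * y * k⁻¹ = x⁻¹ := hk2 x hxP
    calc k * (x ^ a.val * y ^ b.val) * k⁻¹ = (k * x * k⁻¹) ^ a.val * (k * y * k⁻¹) ^ b.val := by
          rw [show (k * x * k⁻¹) ^ a.val = k * x ^ a.val * k⁻¹ from conj_pow,
            show (k * y * k⁻¹) ^ b.val = k * y ^ b.val * k⁻¹ from conj_pow]; group
      _ = y ^ a.val * (x⁻¹) ^ b.val := by rw [← hy, hky]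
      _ = (x⁻¹) ^ b.val * y ^ a.val :=
          (Commute.pow_pow ((show Commute y x from hxy.symm).inv_right) _ _).eq
      _ = x ^ (-b).val * y ^ a.val := by
          rw [inv_pow, eq_comm, ← mul_right_cancel_iff (a := (y ^ a.val)⁻¹), mul_inv_cancel_right,
            mul_inv_cancel_right, eq_inv_iff_mul_eq_one, hpm x hxP, neg_add_cancel]
          simp
  -- labelling of the Sylow subgroups
  let ptOf : Fin 10 → Sylow 3 G := fun z =>
    if hz : z = 9 then P else u (enc_surj z hz).choose • Q0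
  have hpt : ∀ v, ptOf (enc v) = u v • Q0 := by
    intro v
    simp only [ptOf, dif_neg (enc_ne_nine v)]
    rw [enc_inj _ _ (enc_surj (enc v) (enc_ne_nine v)).choose_spec]
  have hpt9 : ptOf 9 = P := by simp [ptOf]
  have hptinj : Function.Injective ptOf := by
    intro a b hab
    have hneP : ∀ v, u v • Q0 ≠ P := fun v e => hQ0 (by
      calc Q0 = (u v)⁻¹ • u v • Q0 := (inv_smul_smul _ _).symm
        _ = (u v)⁻¹ • P := by rw [e]
        _ = P := hPfix _ ((P : Subgroup G).inv_mem (huP v)))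
    by_cases ha : a = 9 <;> by_cases hb : b = 9
    · rw [ha, hb]
    · obtain ⟨w, rfl⟩ := enc_surj b hb
      rw [ha, hpt9, hpt] at hab
      exact absurd hab.symm (hneP w)
    · obtain ⟨v, rfl⟩ := enc_surj a ha
      rw [hb, hpt9, hpt] at hab
      exact absurd hab (hneP v)
    · obtain ⟨v, rfl⟩ := enc_surj a ha
      obtain ⟨w, rfl⟩ := enc_surj b hb
      rw [hpt, hpt] at hab
      have e := hinjP _ (huP v) _ (huP w) hab
      have : v + -w = 0 := huinj _ (by rw [← huadd, huneg, e, mul_inv_cancel])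
      rw [add_neg_eq_zero.mp this]
  have hptbij : Function.Bijective ptOf :=
    (Nat.bijective_iff_injective_and_card _).mpr ⟨hptinj, by rw [Nat.card_fin, hn10]⟩
  let e := Equiv.ofBijective ptOf hptbij
  let ψ : G →* Equiv.Perm (Fin 10) := e.symm.permCongrHom.toMonoidHom.comp (toPermHom G (Sylow 3 G))
  have hψ : ∀ g z w, g • ptOf z = ptOf w → ψ g z = w := by
    intro g z w hw
    show e.symm (g • e z) = w
    rw [Equiv.symm_apply_eq]
    exact hw
  have hψ' : ∀ g z, ptOf (ψ g z) = g • ptOf z := fun g z => e.apply_symm_apply (g • e z)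
  have hψu : ∀ v z, ψ (u v) z = tauT (enc v) z := by
    intro v z
    apply hψ
    by_cases hz : z = 9
    · rw [hz, tauT_nine, hpt9]; exact hPfix _ (huP v)
    · obtain ⟨w, rfl⟩ := enc_surj z hz
      rw [tauT_enc, hpt, hpt, ← mul_smul, huadd]
  have hψk : ∀ z, ψ k z = kT z := by
    intro z
    apply hψ
    by_cases hz : z = 9
    · rw [hz, kT_nine, hpt9]; exact (hNP k).mp hkK.1
    · obtain ⟨w, rfl⟩ := enc_surj z hz
      rw [kT_enc, hpt, hpt, ← hku w, (hKconj k hkK _ (huP w)).2]
  have hψkpow : ∀ n : ℕ, ∀ z, ψ (k ^ n) z = kT^[n] z := by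
    intro n
    induction n with
    | zero => simp
    | succ n ih =>
      intro z
      rw [pow_succ', map_mul, Equiv.Perm.mul_apply, ih, hψk, Function.iterate_succ_apply']
  have hKpow : ∀ c ∈ K, ∃ j : Fin 4, k ^ j.val = c := by
    have hzK : Subgroup.zpowers k = K := Subgroup.eq_of_le_of_card_ge (Subgroup.zpowers_le.mpr hkK)
      (by rw [Nat.card_zpowers, hk4, hK4])
    intro c hc
    rw [← hzK, mem_zpowers_iff_mem_range_orderOf, hk4, Finset.mem_image] at hc
    obtain ⟨n, hn, rfl⟩ := hc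
    exact ⟨⟨n, Finset.mem_range.mp hn⟩, rfl⟩
  refine ⟨ψ, ?_, fun v => ⟨u v, hψu v⟩, ⟨k, hψk⟩, ?_, ?_⟩
  · exact e.symm.permCongrHom.injective.comp (toPerm_ker h)
  · intro g hg
    have hgN : g • P = P := by
      have := hψ' g 9
      rw [hg, hpt9] at this
      exact this.symm
    have hgQ : g • Q0 ≠ P := fun e' => hQ0 (smul_left_cancel g (e'.trans hgN.symm))
    obtain ⟨v, hv⟩ : ∃ v, u v • Q0 = g • Q0 := by
      obtain ⟨z, hz⟩ := hptbij.2 (g • Q0)
      have hz9 : z ≠ 9 := fun e' => hgQ (by rw [← hz, e', hpt9])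
      obtain ⟨v, rfl⟩ := enc_surj z hz9
      exact ⟨v, by rw [← hpt]; exact hz⟩
    obtain ⟨j, hj⟩ := hKpow ((u v)⁻¹ * g) ⟨N.mul_mem (N.inv_mem (Subgroup.le_normalizer (huP v))) ((hNP g).mpr hgN), by
      show ((u v)⁻¹ * g) • Q0 = Q0
      rw [mul_smul, ← hv, inv_smul_smul]⟩
    refine ⟨v, j, fun z => ?_⟩
    have hge : g = u v * k ^ j.val := by rw [hj, mul_inv_cancel_left]
    rw [hge, map_mul, Equiv.Perm.mul_apply, hψu, hψkpow]
  · obtain ⟨g1, hg1⟩ := exists_smul_eq G P Q0
    -- `Q0` is transitive on the other nine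
    have htrans : ∀ Q : Sylow 3 G, Q ≠ Q0 → ∃ q ∈ (Q0 : Subgroup G), q • Q = P := by
      intro Q hQ
      have hne : g1⁻¹ • Q ≠ P := fun e' => hQ (by rw [← hg1, ← e', smul_inv_smul])
      have hne2 : g1⁻¹ • P ≠ P := fun e' => hQ0 (by
        calc Q0 = g1 • P := hg1.symm
          _ = g1 • g1⁻¹ • P := by rw [e']
          _ = P := smul_inv_smul _ _)
      obtain ⟨a, ha, hae⟩ := horb _ hne
      obtain ⟨b, hb, hbe⟩ := horb _ hne2
      refine ⟨g1 * (b * a⁻¹) * g1⁻¹, ?_, ?_⟩
      · rw [← hg1]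
        exact ⟨_, (P : Subgroup G).mul_mem hb ((P : Subgroup G).inv_mem ha), rfl⟩
      · rw [mul_smul, mul_smul, mul_smul, ← hae, inv_smul_smul, hbe, smul_inv_smul]
    obtain ⟨q, hq, hqe⟩ := htrans (g1 • Q0) (fun e' => hQ0 (smul_left_cancel g1 (e'.trans hg1.symm)))
    have hqQ : q • Q0 = Q0 := Sylow.smul_eq_iff_mem_normalizer.mpr (Subgroup.le_normalizer hq)
    set t := q * g1 with ht
    have htP : t • P = Q0 := by rw [ht, mul_smul, hg1, hqQ]
    have htQ : t • Q0 = P := by rw [ht, mul_smul, hqe]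
    have hpt0 : ptOf 0 = Q0 := by rw [← enc_zero, hpt, hu0, one_smul]
    have hmemK : ∀ c : G, c • P = P → c • Q0 = Q0 → c ∈ K := fun c h1 h2 => ⟨(hNP c).mpr h1, h2⟩
    have htkt : t * k * t⁻¹ ∈ K := by
      have e1 : t⁻¹ • P = Q0 := inv_smul_eq_iff.mpr htQ.symm
      have e2 : t⁻¹ • Q0 = P := inv_smul_eq_iff.mpr htP.symm
      refine hmemK _ ?_ ?_
      · rw [mul_smul, mul_smul, e1, show k • Q0 = Q0 from hkK.2, htQ]
      · rw [mul_smul, mul_smul, e2, (hNP k).mp hkK.1, htP]
    obtain ⟨je, hje⟩ := hKpow _ htkt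
    have he : je.val = 1 ∨ je.val = 3 := by
      have ho : orderOf (k ^ je.val) = 4 := by
        rw [hje, ← hk4]
        exact orderOf_injective (MulAut.conj t).toMonoidHom (MulAut.conj t).injective k
      rcases je with ⟨_ | _ | _ | _ | n, hn⟩
      · simp at ho
      · exact Or.inl rfl
      · rw [orderOf_pow' k (by norm_num), hk4] at ho; norm_num at ho
      · exact Or.inr rfl
      · omega
    obtain ⟨j2, hj2⟩ := hKpow (t * t) (hmemK _ (by rw [mul_smul, htP, htQ]) (by rw [mul_smul, htQ, htP]))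
    refine ⟨t, je.val, he, hψ _ _ _ (by rw [hpt9, hpt0, htP]), hψ _ _ _ (by rw [hpt9, hpt0, htQ]), ?_, j2, ?_⟩
    · intro z
      rw [← hψk, ← Equiv.Perm.mul_apply, ← map_mul, ← hψkpow, ← Equiv.Perm.mul_apply, ← map_mul, hje]
      simp [mul_assoc]
    · intro z
      rw [← Equiv.Perm.mul_apply, ← map_mul, ← hj2, hψkpow]

theorem nonempty_mulEquiv_alternating_six (h : Nat.card G = 360) :
    Nonempty (G ≃* alternatingGroup (Fin 6)) := by
  classical
  have hG := Small.nc_of_not_prime (G := G) (by rw [h]; norm_num)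
  obtain ⟨ψ, hψinj, hu, ⟨k, hk⟩, hfix, t, e, he, ht9, ht0, htk, j2, hj2⟩ := exists_line h
  choose u hu using hu
  have htkn : ∀ n z, ψ t (kT^[n] z) = kT^[e * n] (ψ t z) := by
    intro n
    induction n with
    | zero => simp
    | succ n ih =>
      intro z
      rw [Function.iterate_succ_apply', htk, ih, ← Function.iterate_add_apply]
      congr 1; ring
  have hk4 : ∀ n z, kT^[n] z = kT^[n % 4] z := by
    intro n z
    conv_lhs => rw [← Nat.mod_add_div n 4, Function.iterate_add_apply, Function.iterate_mul]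
    rw [show kT^[4] = id from funext fun z => (show ∀ z, kT^[4] z = id z by decide) z, Function.iterate_id, id]
  have hcand : ∀ z, ψ t z = cand e (ψ t 3) (ψ t 4) z := by
    intro z
    unfold cand
    split_ifs with h9 h0 hA
    · rw [h9, ht9]
    · rw [h0, ht0]
    · conv_lhs => rw [rot_orbit z h9 h0, if_pos hA, htkn]
      exact hk4 _ _
    · conv_lhs => rw [rot_orbit z h9 h0, if_neg hA, htkn]
      exact hk4 _ _
  have hf : (fun z => ψ t z) = cand e (ψ t 3) (ψ t 4) := funext hcand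
  have hgoodt : Good (fun z => ψ t z) := by
    have haff : ∀ v : Fin 10, v ≠ 0 → v ≠ 9 → IsAff (word (fun z => ψ t z) v) := by
      intro v hv0 hv9
      obtain ⟨v', rfl⟩ := enc_surj v hv9
      have htv : ψ t (enc v') ≠ 9 := fun e' => hv0 ((ψ t).injective (e'.trans ht0.symm))
      obtain ⟨w', hw'⟩ := enc_surj _ htv
      have hrw : ∀ z, word (fun z => ψ t z) (enc v') z = ψ (t * (u (-w') * (t * (u v' * t)))) z := by
        intro z
        simp only [word, map_mul, Equiv.Perm.mul_apply, hu, ← negT_enc, hw']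
      have hneg : ψ t (tauT (negT (ψ t (enc v'))) (ψ t (enc v'))) = 9 := by
        rw [← hw', negT_enc, tauT_enc, neg_add_cancel, enc_zero, ht0]
      have h9 : ψ (t * (u (-w') * (t * (u v' * t)))) 9 = 9 := by
        rw [← hrw]
        show ψ t (tauT (negT (ψ t (enc v'))) (ψ t (tauT (enc v') (ψ t 9)))) = 9
        rw [ht9, show tauT (enc v') 0 = enc v' by rw [← enc_zero, tauT_enc, add_zero]]
        exact hneg
      obtain ⟨v'', j, hj⟩ := hfix _ h9
      refine ⟨j, fun z => ?_⟩
      have h00 : kT^[j.val] 0 = 0 := (show ∀ j : Fin 4, kT^[j.val] 0 = 0 by decide) j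
      rw [hrw, hrw, hj, hj, h00, show tauT (enc v'') 0 = enc v'' by rw [← enc_zero, tauT_enc, add_zero]]
    rw [hf] at haff ⊢
    have hinj : ∀ a b, cand e (ψ t 3) (ψ t 4) a = cand e (ψ t 3) (ψ t 4) b → a = b := fun a b hab => by
      rw [← hcand, ← hcand] at hab; exact (ψ t).injective hab
    have hsq : ∃ j : Fin 4, ∀ z, cand e (ψ t 3) (ψ t 4) (cand e (ψ t 3) (ψ t 4) z) = kT^[j.val] z :=
      ⟨j2, fun z => by rw [← hcand, ← hcand]; exact hj2 z⟩
    rcases he with rfl | rfl
    · exact cand_check1 _ _ haff hinj hsq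
    · exact cand_check3 _ _ haff hinj hsq
  let S : Submonoid G :=
    { carrier := {g | Good (fun z => ψ g z)}
      one_mem' := fun i => ⟨i, fun a b => by simp⟩
      mul_mem' := fun {g g'} hg hg' i => by
        obtain ⟨j, hj⟩ := hg' i
        obtain ⟨l, hl⟩ := hg j
        exact ⟨l, fun a b => by simp only [map_mul, Equiv.Perm.mul_apply]; rw [hl, hj]⟩ }
  have hSk : k ∈ S := by show Good _; rw [show (fun z => ψ k z) = kT from funext hk]; exact good_kT
  have hSu : ∀ v, u v ∈ S := fun v => by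
    show Good _; rw [show (fun z => ψ (u v) z) = tauT (enc v) from funext (hu v)]; exact good_tauT _
  have hSinv : ∀ g ∈ S, g⁻¹ ∈ S := by
    intro g hg
    have : g⁻¹ = g ^ (orderOf g - 1) := by
      apply inv_eq_of_mul_eq_one_right
      rw [← pow_succ', show orderOf g - 1 + 1 = orderOf g by have := orderOf_pos g; omega, pow_orderOf_eq_one]
    rw [this]
    exact S.pow_mem hg _
  have hkpow : ∀ n z, ψ (k ^ n) z = kT^[n] z := by
    intro n
    induction n with
    | zero => simp
    | succ n ih =>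
      intro z
      rw [pow_succ', map_mul, Equiv.Perm.mul_apply, ih, hk, Function.iterate_succ_apply']
  have hN : ∀ g, ψ g 9 = 9 → g ∈ S := by
    intro g hg
    obtain ⟨v, j, hj⟩ := hfix g hg
    have : g = u v * k ^ j.val := hψinj (Equiv.ext fun z => by
      rw [map_mul, Equiv.Perm.mul_apply, hu, hkpow, hj])
    rw [this]
    exact S.mul_mem (hSu v) (S.pow_mem hSk _)
  have hall : ∀ g, g ∈ S := by
    intro g
    by_cases hg : ψ g 9 = 9
    · exact hN g hg
    obtain ⟨w, hw⟩ := enc_surj _ hg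
    have h1 : t * u (-w) * g ∈ S := hN _ (by
      rw [map_mul, map_mul, Equiv.Perm.mul_apply, Equiv.Perm.mul_apply, ← hw, hu, tauT_enc,
        neg_add_cancel, enc_zero, ht0])
    have : g = (u (-w))⁻¹ * (t⁻¹ * (t * u (-w) * g)) := by group
    rw [this]
    exact S.mul_mem (hSinv _ (hSu _)) (S.mul_mem (hSinv _ hgoodt) h1)
  have hall' : ∀ g, Good (fun z => ψ g z) := hall
  choose σ hσ using hall'
  have hσ1 : ∀ g g' i, σ (g * g') i = σ g (σ g' i) := by
    intro g g' i
    refine graphs_inj _ _ fun a b => ?_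
    obtain ⟨a', rfl⟩ := (ψ (g * g')).surjective a
    obtain ⟨b', rfl⟩ := (ψ (g * g')).surjective b
    rw [hσ]
    simp only [map_mul, Equiv.Perm.mul_apply]
    rw [hσ, hσ]
  have hσ0 : ∀ i, σ 1 i = i := fun i => graphs_inj _ _ fun a b => by
    have := hσ 1 i a b
    simpa using this
  let _ : MulAction G (Fin 6) :=
    { smul := fun g i => σ g i
      one_smul := hσ0
      mul_smul := hσ1 }
  have hinj : Function.Injective (toPermHom G (Fin 6)) := by
    rw [← MonoidHom.ker_eq_bot_iff]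
    refine (Small.eq_bot_or_top _).resolve_right fun e' => graph_moved fun a b => ?_
    have h1 : σ (u (0, 1)) 0 = 0 :=
      Equiv.ext_iff.mp (MonoidHom.mem_ker.mp (show u (0, 1) ∈ (toPermHom G (Fin 6)).ker by rw [e']; exact Subgroup.mem_top _)) 0
    have := hσ (u (0, 1)) 0 a b
    dsimp only at this
    rw [h1, hu, hu, show enc (0, 1) = 1 by decide] at this
    exact this
  let f : G →* alternatingGroup (Fin 6) :=
    (toPermHom G (Fin 6)).codRestrict _ fun g => Equiv.Perm.mem_alternatingGroup.mpr (Small.sign_toPerm hG g)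
  refine ⟨MulEquiv.ofBijective f ((Nat.bijective_iff_injective_and_card _).mpr
    ⟨fun a b hab => hinj (congrArg Subtype.val hab), ?_⟩)⟩
  have := two_mul_nat_card_alternatingGroup (α := Fin 6)
  rw [Nat.card_perm, Nat.card_fin] at this
  rw [h]
  simp only [Nat.factorial] at this
  omega

end CfsgLib.OrderElim.A6
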