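import Mathlib

/-!
Finite data for recognizing the alternating group of degree six on the projective line over nine elements.
-/

set_option autoImplicit false

namespace CfsgLib.OrderElim.A6

/-- The rotation `z ↦ i z` of the nine affine points (`9` is the point at infinity). -/
def kT : Fin 10 → Fin 10 := ![0, 6, 3, 1, 7, 4, 2, 8, 5, 9]

/-- Negation of the affine points. -/
def negT : Fin 10 → Fin 10 := ![0, 2, 1, 6, 8, 7, 3, 5, 4, 9]

/-- The translations. -/
def tauT : Fin 10 → Fin 10 → Fin 10 :=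
  ![![0, 1, 2, 3, 4, 5, 6, 7, 8, 9], ![1, 2, 0, 4, 5, 3, 7, 8, 6, 9], ![2, 0, 1, 5, 3, 4, 8, 6, 7, 9], ![3, 4, 5, 6, 7, 8, 0, 1, 2, 9], ![4, 5, 3, 7, 8, 6, 1, 2, 0, 9], ![5, 3, 4, 8, 6, 7, 2, 0, 1, 9], ![6, 7, 8, 0, 1, 2, 3, 4, 5, 9], ![7, 8, 6, 1, 2, 0, 4, 5, 3, 9], ![8, 6, 7, 2, 0, 1, 5, 3, 4, 9], ![0, 1, 2, 3, 4, 5, 6, 7, 8, 9]]

/-- The index in the rotation orbit. -/
def idxT : Fin 10 → ℕ := ![0, 1, 3, 0, 0, 3, 2, 1, 2, 0]

/-- The first rotation orbit. -/
def inA : Fin 10 → Bool := ![false, true, true, true, false, false, true, false, false, false]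

/-- Six graphs on the ten points. -/
def gMask : Fin 6 → ℕ := ![90468873877376568986535495174, 180905851014352093093237888290, 362329888421623310762990710932, 8699479839509126236911321672, 69366979413102644779930698120, 555260255263522018457079160944]

/-- Adjacency in the six graphs. -/
def adj (i : Fin 6) (a b : Fin 10) : Bool := (gMask i).testBit (10 * a.val + b.val)

/-- A candidate for an element interchanging `0` and `9`. -/
def cand (e : ℕ) (c1 c2 z : Fin 10) : Fin 10 :=
  if z = 9 then 0 else if z = 0 then 9 else kT^[e * idxT z % 4] (if inA z then c1 else c2)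

/-- The permutation maps each graph to one of the graphs. -/
def Good (f : Fin 10 → Fin 10) : Prop :=
  ∀ i : Fin 6, ∃ j : Fin 6, ∀ a b, adj j (f a) (f b) = adj i a b

/-- The map is affine. -/
def IsAff (f : Fin 10 → Fin 10) : Prop :=
  ∃ j : Fin 4, ∀ z, f z = tauT (f 0) (kT^[j.val] z)

/-- `t ∘ (translation) ∘ t ∘ (translation) ∘ t`. -/
def word (f : Fin 10 → Fin 10) (v z : Fin 10) : Fin 10 :=
  f (tauT (negT (f v)) (f (tauT v (f z))))

instance decGood (f : Fin 10 → Fin 10) : Decidable (Good f) := by unfold Good; infer_instance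

instance decAff (f : Fin 10 → Fin 10) : Decidable (IsAff f) := by unfold IsAff; infer_instance

theorem cand_check1 : ∀ c1 c2 : Fin 10, (∀ v : Fin 10, v ≠ 0 → v ≠ 9 → IsAff (word (cand 1 c1 c2) v)) →
    (∀ a b, cand 1 c1 c2 a = cand 1 c1 c2 b → a = b) → (∃ j : Fin 4, ∀ z, cand 1 c1 c2 (cand 1 c1 c2 z) = kT^[j.val] z) →
    Good (cand 1 c1 c2) := by
  decide +kernel

theorem cand_check3 : ∀ c1 c2 : Fin 10, (∀ v : Fin 10, v ≠ 0 → v ≠ 9 → IsAff (word (cand 3 c1 c2) v)) →
    (∀ a b, cand 3 c1 c2 a = cand 3 c1 c2 b → a = b) → (∃ j : Fin 4, ∀ z, cand 3 c1 c2 (cand 3 c1 c2 z) = kT^[j.val] z) →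
    Good (cand 3 c1 c2) := by
  decide +kernel

theorem good_kT : Good kT := by decide +kernel

theorem good_tauT : ∀ v, Good (tauT v) := by decide +kernel

theorem graphs_inj : ∀ i j : Fin 6, (∀ a b, adj i a b = adj j a b) → i = j := by decide +kernel

theorem graph_moved : ¬ ∀ a b : Fin 10, adj 0 (tauT 1 a) (tauT 1 b) = adj 0 a b := by decide +kernel

theorem rot_orbit : ∀ z : Fin 10, z ≠ 9 → z ≠ 0 → z = kT^[idxT z] (if inA z then 3 else 4) := by
  decide +kernel

end CfsgLib.OrderElim.A6
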