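import Cfsg.Agent.Lib.Small.Basic

/-!
Elimination of orders of non-abelian simple groups by one prime.
-/

set_option autoImplicit false

namespace CfsgLib.OrderElim

/-- The prime `p` (of multiplicity `k`) rules out the order `n`: no possible Sylow number survives. -/
def Excl (n p k : ℕ) : Prop :=
  k ≠ 0 ∧ p ≠ 0 ∧ p ^ k ∣ n ∧ ¬ p ∣ n / p ^ k ∧
    ∀ d ∈ (n / p ^ k).divisors, d % p = 1 → 1 < d →
      ¬ ((d ≤ 12 → 2 * n ∣ d.factorial) ∧ (k = 1 → ∃ e ∈ (p - 1).divisors, 1 < e ∧ p * e * d ∣ n))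

instance instDecidableExcl (n p k : ℕ) : Decidable (Excl n p k) := by
  unfold Excl; infer_instance

theorem false_of_excl {G : Type*} [Group G] [Finite G] [IsSimpleGroup G] (hG : ¬ IsMulCommutative G)
    (p k : ℕ) [Fact p.Prime] (h : Excl (Nat.card G) p k) : False := by
  obtain ⟨hk, -, hdvd, hm, hd⟩ := h
  set n := Nat.card G with hn
  have hc : n = p ^ k * (n / p ^ k) := (Nat.mul_div_cancel' hdvd).symm
  have hmem := CfsgLib.Small.card_sylow_mem (p := p) hG hk hc hm
  rw [Finset.mem_filter] at hmem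
  obtain ⟨hdiv, hmod, hlt⟩ := hmem
  have hpG : p ∣ Nat.card G := (dvd_pow_self p hk).trans hdvd
  refine hd _ hdiv hmod hlt ⟨fun _ => CfsgLib.Small.two_mul_card_dvd_factorial_card_sylow hG hpG, ?_⟩
  rintro rfl
  obtain ⟨P⟩ := (inferInstance : Nonempty (Sylow p G))
  have hP : Nat.card P = p := by
    rw [CfsgLib.Small.card_sylow_of_card_eq hc hm P, pow_one]
  obtain ⟨e, he1, he2, hpC, -, hmul⟩ := CfsgLib.Small.sylow_prime_order_data hG P hP
  have hp1 : p - 1 ≠ 0 := by have := (Fact.out : p.Prime).two_le; omega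
  refine ⟨e, Nat.mem_divisors.mpr ⟨he2, hp1⟩, he1, ?_⟩
  rw [hn, ← hmul]
  exact Nat.mul_dvd_mul_right (Nat.mul_dvd_mul_right hpC e) _

/-- The order of a non-abelian simple group is neither `1` nor a prime. -/
theorem card_not_prime {G : Type*} [Group G] [Finite G] [IsSimpleGroup G] (hG : ¬ IsMulCommutative G) :
    ¬ (Nat.card G).Prime := fun h => by
  haveI := Fact.mk h
  have : IsCyclic G := isCyclic_of_prime_card rfl
  exact hG (inferInstance)

theorem one_lt_card {G : Type*} [Group G] [Finite G] [IsSimpleGroup G] : 1 < Nat.card G :=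
  Finite.one_lt_card

end CfsgLib.OrderElim
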